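import Mathlib
import Cfsg.Agent.S0713

set_option autoImplicit false

namespace Cfsg.Agent.AltTwoPrimes

open Equiv MulAction
open scoped Pointwise

variable {α : Type*} [Fintype α] [DecidableEq α]

/-- A transitive group with a cycle of prime length more than half the degree is primitive. -/
theorem isPreprimitive_of_cycle (G : Subgroup (Perm α)) [IsPretransitive G α] {y : Perm α}
    (hy : y ∈ G) (hyc : y.IsCycle) (hq : y.support.card.Prime)
    (h2 : Fintype.card α < 2 * y.support.card) : IsPreprimitive G α where
  isTrivialBlock_of_isBlock := by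
    intro B hB
    classical
    rcases B.eq_empty_or_nonempty with rfl | ⟨b, hb⟩
    · exact Or.inl Set.subsingleton_empty
    obtain ⟨w, hw⟩ : ∃ w, y w ≠ w := ⟨hyc.choose, hyc.choose_spec.1⟩
    obtain ⟨g, hg⟩ := exists_smul_eq G b w
    set B' := g • B with hB'
    have hblk : IsBlock G B' := hB.translate g
    have hwB : w ∈ B' := ⟨b, hb, hg⟩
    have hcard : B'.ncard = B.ncard := Set.ncard_image_of_injective _ (MulAction.injective g)
    set Y : G := ⟨y, hy⟩ with hY
    have hord : orderOf y = y.support.card := hyc.orderOf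
    by_cases hfix : Y • B' = B'
    · refine Or.inr ?_
      have hsub : (y.support : Set α) ⊆ B' := by
        intro z hz
        obtain ⟨i, rfl⟩ := hyc.exists_pow_eq hw (Perm.mem_support.1 hz)
        have hi : Y ^ i • B' = B' := by
          induction i with
          | zero => simp
          | succ i ih =>
            rw [pow_succ, mul_smul, hfix, ih (by simpa [Perm.pow_apply_mem_support] using hz)]
        exact hi.subset (Set.smul_mem_smul_set (a := Y ^ i) hwB)
      have h3 := Set.ncard_le_ncard hsub (Set.toFinite _)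
      rw [Set.ncard_coe_finset, hcard] at h3
      exact hB.eq_univ_of_card_lt (by rw [Nat.card_eq_fintype_card]; omega)
    · refine Or.inl ?_
      have hdisj : ∀ i j : ℕ, i < j → j < y.support.card → Disjoint (Y ^ i • B') (Y ^ j • B') := by
        intro i j hij hj
        rcases (MulAction.isBlock_iff_smul_eq_smul_or_disjoint.1 hblk) (Y ^ i) (Y ^ j) with h | h
        · exfalso; apply hfix
          have h1 : Y ^ (j - i) • B' = B' := smul_left_cancel (Y ^ i) (by
            rw [← mul_smul, ← pow_add, Nat.add_sub_cancel' hij.le]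
            exact h.symm)
          have hco : (j - i).Coprime (orderOf y) := by
            rw [hord]
            exact (hq.coprime_iff_not_dvd.2 (Nat.not_dvd_of_pos_of_lt (by omega) (by omega))).symm
          obtain ⟨m, hm⟩ := exists_pow_eq_self_of_coprime hco
          have h2 : ∀ k, (Y ^ (j - i)) ^ k • B' = B' := fun k => by
            induction k with
            | zero => simp
            | succ k ih => rw [pow_succ, mul_smul, h1, ih]
          have h3 : (Y ^ (j - i)) ^ m = Y := Subtype.ext (by simp [hY, hm])
          rw [← h3]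
          exact h2 m
        · exact h
      let f : Fin y.support.card × B' → α := fun z => (Y ^ (z.1 : ℕ)) • (z.2 : α)
      have hf : Function.Injective f := by
        rintro ⟨i, u⟩ ⟨j, v⟩ h
        have hu : f (i, u) ∈ Y ^ (i : ℕ) • B' := Set.smul_mem_smul_set u.2
        have hv : f (j, v) ∈ Y ^ (j : ℕ) • B' := Set.smul_mem_smul_set v.2
        rcases lt_trichotomy (i : ℕ) j with h' | h' | h'
        · exact absurd (h ▸ hv) (Set.disjoint_left.1 (hdisj i j h' j.2) hu)
        · obtain rfl : i = j := Fin.ext h'
          exact Prod.ext rfl (Subtype.ext (smul_left_cancel _ h))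
        · exact absurd (h ▸ hv) (fun hh => Set.disjoint_left.1 (hdisj j i h' i.2) hh hu)
      have h3 := Nat.card_le_card_of_injective f hf
      rw [Nat.card_prod, Nat.card_fin, Nat.card_coe_set_eq, hcard, Nat.card_eq_fintype_card] at h3
      rw [← Set.ncard_le_one_iff_subsingleton]
      by_contra hc
      have h4 : y.support.card * 2 ≤ y.support.card * B.ncard := Nat.mul_le_mul_left _ (by omega)
      omega

omit [DecidableEq α] in
/-- Two permutations of prime orders `p < q`, `q` a cycle, with `p + q` above the degree and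
moving all points, generate a transitive group. -/
theorem isPretransitive_of_pair [DecidableEq α] (G : Subgroup (Perm α)) {x y : Perm α} (hx : x ∈ G)
    (hy : y ∈ G) (hp : (orderOf x).Prime) (hyc : y.IsCycle)
    (hsum : Fintype.card α < orderOf x + y.support.card)
    (hcov : ∀ a, x a ≠ a ∨ y a ≠ a) : IsPretransitive G α := by
  classical
  obtain ⟨w, hw⟩ : ∃ w, y w ≠ w := ⟨hyc.choose, hyc.choose_spec.1⟩
  have hY : ∀ z, y z ≠ z → ∃ g : G, g • w = z := fun z hz => by
    obtain ⟨i, hi⟩ := hyc.exists_pow_eq hw hz
    exact ⟨⟨y, hy⟩ ^ i, hi⟩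
  refine (isPretransitive_iff_base w).2 fun z => ?_
  by_cases hz : y z = z
  · have hxz : x z ≠ z := (hcov z).resolve_right (not_not.2 hz)
    have hcyc : (x.cycleOf z).IsCycle := Perm.isCycle_cycleOf x hxz
    have hmem : x.cycleOf z ∈ x.cycleFactorsFinset :=
      Perm.cycleOf_mem_cycleFactorsFinset_iff.2 (Perm.mem_support.2 hxz)
    have hcard : (x.cycleOf z).support.card = orderOf x := by
      rw [← hcyc.orderOf]
      refine (hp.eq_one_or_self_of_dvd _ ?_).resolve_left ?_
      · rw [hcyc.orderOf]
        apply Perm.dvd_of_mem_cycleType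
        rw [Perm.cycleType_def]
        exact Multiset.mem_map.2 ⟨_, hmem, rfl⟩
      · rw [hcyc.orderOf]
        exact (hcyc.two_le_card_support).trans_lt' one_lt_two |>.ne'
    obtain ⟨u, hu1, hu2⟩ : ∃ u, u ∈ (x.cycleOf z).support ∧ u ∈ y.support := by
      by_contra hno
      push Not at hno
      have h1 := Finset.card_le_univ ((x.cycleOf z).support ∪ y.support)
      rw [Finset.card_union_of_disjoint (Finset.disjoint_left.2 hno), hcard] at h1
      omega
    obtain ⟨g, hg⟩ := hY u (Perm.mem_support.1 hu2)
    obtain ⟨i, hi⟩ := (Perm.mem_support_cycleOf_iff.1 hu1).1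
    refine ⟨(⟨x, hx⟩ : G) ^ (-i) * g, ?_⟩
    rw [mul_smul, hg]
    show (((⟨x, hx⟩ : G) ^ (-i) : G) : Perm α) u = z
    rw [Subgroup.coe_zpow, ← hi, zpow_neg]
    exact Equiv.symm_apply_apply _ _
  · exact hY z hz

/-- A cycle commutes only with its powers on its support. -/
theorem eq_pow_of_commute_cycle {h x : Perm α} (hxc : x.IsCycle) (hcomm : h * x = x * h)
    (hfix : ∀ z, x z = z → h z = z) : h ∈ Subgroup.zpowers x := by
  obtain ⟨w, hw⟩ : ∃ w, x w ≠ w := ⟨hxc.choose, hxc.choose_spec.1⟩
  have hhw : x (h w) ≠ h w := fun hh => hw (h.injective (by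
    rw [← Perm.mul_apply, hcomm, Perm.mul_apply, hh]))
  obtain ⟨i, hi⟩ := hxc.exists_pow_eq hw hhw
  refine Subgroup.mem_zpowers_iff.2 ⟨i, Equiv.ext fun z => ?_⟩
  rw [zpow_natCast]
  by_cases hz : x z = z
  · rw [hfix z hz]; exact Perm.pow_apply_eq_self_of_apply_eq_self hz i
  · obtain ⟨j, rfl⟩ := hxc.exists_pow_eq hw hz
    have hc : h * x ^ j = x ^ j * h := (Commute.pow_right hcomm j).eq
    rw [← Perm.mul_apply h, hc, Perm.mul_apply, ← hi, ← Perm.mul_apply, ← Perm.mul_apply, ← pow_add,
      ← pow_add, add_comm]

/-- No group acts sharply doubly transitively on a set whose size has two prime divisors, with a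
point stabiliser of prime order. -/
theorem no_sharp {H X : Type*} [Group H] [Finite H] [Fintype X] [MulAction H X] [FaithfulSMul H X]
    [IsPretransitive H X] {r s t : ℕ} (hr : r.Prime) (hs : s.Prime) (ht : t.Prime) (hst : s ≠ t)
    (hsX : s ∣ r + 1) (htX : t ∣ r + 1) (hX : Fintype.card X = r + 1)
    (hH : Nat.card H = (r + 1) * r) : False := by
  classical
  have := Fintype.ofFinite H
  have hstab : ∀ b : X, Nat.card (stabilizer H b) = r := fun b => by
    have h1 := MulAction.index_stabilizer_of_transitive H b
    have h2 := (stabilizer H b).card_mul_index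
    rw [h1, Nat.card_eq_fintype_card (α := X), hX, hH, mul_comm (r + 1)] at h2
    exact Nat.eq_of_mul_eq_mul_right (by omega) h2
  have hone : ∀ h : H, ∀ b c : X, b ≠ c → h • b = b → h • c = c → h = 1 := by
    intro h b c hbc hb hc
    by_contra hne
    have hordh : orderOf h = r := by
      have h1 : orderOf (⟨h, hb⟩ : stabilizer H b) ∣ r := hstab b ▸ orderOf_dvd_natCard _
      rw [← Subgroup.orderOf_coe] at h1
      exact (hr.eq_one_or_self_of_dvd _ h1).resolve_left (fun h' => hne (orderOf_eq_one_iff.1 h'))
    let P : Perm X := MulAction.toPermHom H X h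
    have hPord : orderOf P = r := by
      rw [← hordh]
      exact orderOf_injective _ MulAction.toPerm_injective h
    obtain ⟨k, hk⟩ := Perm.cycleType_prime_order (σ := P) (hPord ▸ hr)
    have h2 := P.sum_cycleType
    rw [hk, Multiset.sum_replicate, hPord, smul_eq_mul] at h2
    have hsub : P.support ⊆ ((Finset.univ : Finset X).erase b).erase c := fun z hz => by
      simp only [Finset.mem_erase, Finset.mem_univ, and_true]
      constructor <;> rintro rfl <;> exact Perm.mem_support.1 hz (by first | exact hc | exact hb)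
    have h3 := Finset.card_le_card hsub
    rw [Finset.card_erase_of_mem (by simp [hbc.symm]), Finset.card_erase_of_mem (by simp),
      Finset.card_univ, hX] at h3
    have h5 : r ≤ (k + 1) * r := Nat.le_mul_of_pos_left r (by omega)
    have := hr.two_le
    omega
  let Fx : X → Finset H := fun b => (Finset.univ.filter (fun h : H => h • b = b)).erase 1
  let D : Finset H := Finset.univ.filter (fun h : H => ∀ b : X, h • b ≠ b)
  have hFcard : ∀ b, (Fx b).card = r - 1 := fun b => by
    rw [Finset.card_erase_of_mem (by simp), ← Fintype.card_subtype, ← Nat.card_eq_fintype_card,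
      show Nat.card {h : H // h • b = b} = r from hstab b]
  have hdisj : Set.PairwiseDisjoint (↑(Finset.univ : Finset X)) Fx := by
    intro b _ c _ hbc
    rw [Function.onFun, Finset.disjoint_left]
    intro h h1 h2
    simp only [Fx, Finset.mem_erase, Finset.mem_filter, Finset.mem_univ, true_and] at h1 h2
    exact h1.1 (hone h b c hbc h1.2 h2.2)
  have hD : D.card = r := by
    obtain ⟨b0⟩ : Nonempty X := Fintype.card_pos_iff.1 (by omega)
    have hunion : (Finset.univ : Finset H) = insert 1 (D ∪ Finset.univ.biUnion Fx) := by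
      refine (Finset.eq_univ_of_forall fun h => ?_).symm
      simp only [Finset.mem_insert, Finset.mem_union, Finset.mem_biUnion, D, Fx, Finset.mem_erase,
        Finset.mem_filter, Finset.mem_univ, true_and]
      by_cases h1 : h = 1
      · exact Or.inl h1
      · by_cases h2 : ∀ b : X, h • b ≠ b
        · exact Or.inr (Or.inl h2)
        · push Not at h2
          obtain ⟨b, hb⟩ := h2
          exact Or.inr (Or.inr ⟨b, h1, hb⟩)
    have h4 := congrArg Finset.card hunion
    rw [Finset.card_univ, ← Nat.card_eq_fintype_card, hH, Finset.card_insert_of_notMem,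
      Finset.card_union_of_disjoint, Finset.card_biUnion hdisj,
      Finset.sum_congr rfl (fun b _ => hFcard b), Finset.sum_const, Finset.card_univ, hX,
      smul_eq_mul] at h4
    · have h6 : (r + 1) * r = (r + 1) * (r - 1) + (r + 1) := by
        rw [← Nat.mul_succ]; congr 1; have := hr.one_le; omega
      omega
    · rw [Finset.disjoint_left]
      intro h h1 h2
      simp only [Finset.mem_biUnion, D, Fx, Finset.mem_erase, Finset.mem_filter, Finset.mem_univ,
        true_and] at h1 h2
      obtain ⟨b, -, hb⟩ := h2
      exact h1 b hb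
    · intro hh
      simp only [Finset.mem_union, Finset.mem_biUnion, D, Fx, Finset.mem_erase, Finset.mem_filter,
        Finset.mem_univ, true_and] at hh
      rcases hh with hh | ⟨b, hh, -⟩
      · exact hh b0 (one_smul _ _)
      · exact hh rfl
  have hder : ∀ (ℓ : ℕ), ℓ.Prime → ℓ ∣ r + 1 → ∀ u : H, orderOf u = ℓ → u ∈ D := by
    intro ℓ hl hlX u hu
    simp only [D, Finset.mem_filter, Finset.mem_univ, true_and]
    intro b hb
    have h1 : orderOf (⟨u, hb⟩ : stabilizer H b) ∣ r := hstab b ▸ orderOf_dvd_natCard _
    rw [← Subgroup.orderOf_coe, hu] at h1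
    obtain rfl := (Nat.prime_dvd_prime_iff_eq hl hr).1 h1
    exact hl.one_lt.ne' (Nat.dvd_one.1 ((Nat.dvd_add_right (dvd_refl _)).1 hlX))
  have := Fact.mk hs
  have := Fact.mk ht
  obtain ⟨u, hu⟩ := exists_prime_orderOf_dvd_card' (G := H) s (hH ▸ hsX.mul_right r)
  obtain ⟨v, hv⟩ := exists_prime_orderOf_dvd_card' (G := H) t (hH ▸ htX.mul_right r)
  have huD := hder s hs hsX u hu
  have hvD := hder t ht htX v hv
  obtain ⟨b0⟩ : Nonempty X := Fintype.card_pos_iff.1 (by omega)
  have huf : ∀ c : X, u • c ≠ c := (Finset.mem_filter.1 huD).2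
  let φ : stabilizer H b0 → D := fun k => ⟨(k : H) * u * (k : H)⁻¹, by
    simp only [D, Finset.mem_filter, Finset.mem_univ, true_and]
    intro c hc
    apply huf ((k : H)⁻¹ • c)
    rwa [eq_inv_smul_iff, ← mul_smul, ← mul_smul]⟩
  have hφ : Function.Injective φ := by
    intro k l hkl
    have h' : (k : H) * u * (k : H)⁻¹ = (l : H) * u * (l : H)⁻¹ := congrArg Subtype.val hkl
    set m : H := (l : H)⁻¹ * k with hm
    have hmu : m * u = u * m := by
      calc m * u = (l : H)⁻¹ * ((k : H) * u * (k : H)⁻¹) * k := by rw [hm]; group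
        _ = (l : H)⁻¹ * ((l : H) * u * (l : H)⁻¹) * k := by rw [h']
        _ = u * m := by rw [hm]; group
    have hmb : m • b0 = b0 := (l⁻¹ * k).2
    have h1 : m = 1 := hone m b0 (u • b0) (huf b0).symm hmb (by
      rw [← mul_smul, hmu, mul_smul, hmb])
    exact Subtype.ext (inv_mul_eq_one.1 h1).symm
  have hsurj : Function.Surjective φ := (Function.Injective.bijective_of_nat_card_le hφ (by
    rw [hstab b0, Nat.card_eq_fintype_card, Fintype.card_coe, hD])).2
  obtain ⟨k, hk⟩ := hsurj ⟨v, hvD⟩
  have h' : (k : H) * u * (k : H)⁻¹ = v := congrArg Subtype.val hk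
  apply hst
  rw [← hu, ← hv, ← h']
  exact (orderOf_injective (MulAut.conj (k : H)).toMonoidHom (MulAut.conj (k : H)).injective u).symm

/-- A proper subgroup of an alternating group of degree at least five has index `j` with
`n!/2 ∣ j!`. -/
theorem card_le_factorial_index (h5 : 5 ≤ Nat.card α) (H : Subgroup (alternatingGroup α)) (hH : H ≠ ⊤) :
    Nat.card (alternatingGroup α) ∣ (H.index).factorial := by
  classical
  have := alternatingGroup.isSimpleGroup h5
  let ψ := MulAction.toPermHom (alternatingGroup α) (alternatingGroup α ⧸ H)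
  have hker : ψ.ker = ⊥ := by
    refine (Subgroup.Normal.eq_bot_or_eq_top (MonoidHom.normal_ker ψ)).resolve_right fun h => hH ?_
    rw [eq_top_iff, ← h]
    intro g hg
    have h' : g • ((1 : alternatingGroup α) : alternatingGroup α ⧸ H) = (1 : alternatingGroup α) :=
      DFunLike.congr_fun (show ψ g = 1 from hg) ((1 : alternatingGroup α) : alternatingGroup α ⧸ H)
    rwa [MulAction.Quotient.smul_coe, smul_eq_mul, mul_one, QuotientGroup.eq, mul_one,
      inv_mem_iff] at h'
  have := Subgroup.card_dvd_of_injective ψ ((MonoidHom.ker_eq_bot_iff ψ).1 hker)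
  rwa [Nat.card_perm] at this

end Cfsg.Agent.AltTwoPrimes
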