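import Cfsg.Agent.AltTwoPrimes.Small

set_option autoImplicit false

namespace Cfsg.Agent.AltTwoPrimes

open Equiv MulAction
open scoped Pointwise

variable {α : Type*} [Fintype α] [DecidableEq α]

/-- A primitive group of degree 13 with an element of order 5 that is 3-transitive contains a
3-cycle. -/
theorem degree_thirteen_five (G : Subgroup (Perm α)) (hG : IsPreprimitive G α)
    (h3 : IsMultiplyPretransitive G α 3) (hd : Fintype.card α = 13) (h5 : 5 ∣ Nat.card G) :
    alternatingGroup α ≤ G := by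
  classical
  have hp5 : Fact (Nat.Prime 5) := ⟨by norm_num⟩
  have hfive : ∀ c : Perm α, c ∈ G → c.IsCycle → c.support.card = 5 → alternatingGroup α ≤ G :=
    fun c hc hcc hcs => Cfsg.Agent.S0713.result G hG (by norm_num : Nat.Prime 5) (by omega) (by omega) hcc hcs hc
  obtain ⟨f, hf⟩ := exists_prime_orderOf_dvd_card' (G := G) 5 h5
  have hford : orderOf (f : Perm α) = 5 := by rw [Subgroup.orderOf_coe, hf]
  obtain ⟨n, hn⟩ := Perm.cycleType_prime_order (σ := (f : Perm α)) (hford ▸ Nat.prime_five)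
  rw [hford] at hn
  have hsum := (f : Perm α).sum_cycleType
  rw [hn, Multiset.sum_replicate, smul_eq_mul] at hsum
  have hle := Finset.card_le_univ (f : Perm α).support
  rw [hd] at hle
  rcases Nat.eq_zero_or_pos n with rfl | hn0
  · refine hfive _ f.2 ?_ (by omega)
    rw [← Perm.card_cycleType_eq_one, hn]; simp
  obtain rfl : n = 1 := by omega
  -- the Sylow 5-subgroups of `G` have order 5, or a 5-cycle lies in `G`
  by_cases h25 : 5 ^ 2 ∣ Nat.card G
  · have hfac : (Nat.card (Perm α)).factorization 5 = 2 := by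
      have h1 : 5 ^ 2 ∣ Nat.card (Perm α) := h25.trans (Subgroup.card_subgroup_dvd_card G)
      have h2 : ¬ 5 ^ 3 ∣ Nat.card (Perm α) := by
        rw [Nat.card_perm, Nat.card_eq_fintype_card, hd]; norm_num [Nat.factorial]
      rw [hp5.out.pow_dvd_iff_le_factorization Nat.card_pos.ne'] at h1 h2
      omega
    obtain ⟨S, hS⟩ := Sylow.exists_subgroup_card_pow_prime (G := G) 5 h25
    let SP : Sylow 5 (Perm α) := Sylow.ofCard (S.map G.subtype)
      (by rw [Subgroup.card_subtype, hS, hfac])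
    let e : Fin 13 ≃ α := (Fintype.equivFinOfCardEq hd).symm
    obtain ⟨c, hcc, hcs⟩ : ∃ c : Perm α, c.IsCycle ∧ c.support.card = 5 := by
      have hl : ([e 0, e 1, e 2, e 3, e 4] : List α).Nodup := by
        rw [show [e 0, e 1, e 2, e 3, e 4] = ([0, 1, 2, 3, 4] : List (Fin 13)).map e from rfl]
        exact List.Nodup.map e.injective (by decide)
      refine ⟨List.formPerm _, List.isCycle_formPerm hl (by simp), ?_⟩
      rw [List.support_formPerm_of_nodup _ hl (by simp), List.toFinset_card_of_nodup hl]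
      rfl
    have hcord : orderOf c = 5 := hcc.orderOf.trans hcs
    have hpg : IsPGroup 5 (Subgroup.zpowers c) := IsPGroup.of_card (n := 1) (by rw [Nat.card_zpowers, hcord, pow_one])
    obtain ⟨Q, hQ⟩ := hpg.exists_le_sylow
    obtain ⟨g, hg⟩ := MulAction.exists_smul_eq (Perm α) Q SP
    have hmem : g * c * g⁻¹ ∈ (SP : Subgroup (Perm α)) := by
      rw [← hg, Sylow.coe_subgroup_smul]
      exact Subgroup.smul_mem_pointwise_smul _ (MulAut.conj g) _ (hQ (Subgroup.mem_zpowers c))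
    refine hfive (g * c * g⁻¹) ?_ hcc.conj (by rw [Perm.card_support_conj, hcs])
    obtain ⟨s, -, hs⟩ := Subgroup.mem_map.1 hmem
    rw [← hs]; exact s.2
  set t : Set α := ((f : Perm α).support : Set α)ᶜ with ht
  have htmem : ∀ w, w ∈ t ↔ (f : Perm α) w = w := fun w => by simp [ht]
  have htc : t.ncard = 3 := by
    rw [ht, Set.ncard_compl, Set.ncard_coe_finset, Nat.card_eq_fintype_card, hd]; omega
  set K : Subgroup G := fixingSubgroup G t with hK
  have hfK : f ∈ K := (mem_fixingSubgroup_iff G).2 fun w hw => (htmem w).1 hw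
  have hKfix : ∀ k : K, ∀ w ∈ t, (k : G) • w = w := fun k w hw => (mem_fixingSubgroup_iff G).1 k.2 w hw
  have hfac : (Nat.card K).factorization 5 = 1 := by
    have h1 : 5 ^ 1 ∣ Nat.card K := by
      rw [pow_one, ← hf, ← Subgroup.orderOf_mk f hfK]; exact orderOf_dvd_natCard _
    have h2 : ¬ 5 ^ 2 ∣ Nat.card K := fun h => h25 (h.trans (Subgroup.card_subgroup_dvd_card K))
    rw [hp5.out.pow_dvd_iff_le_factorization Nat.card_pos.ne'] at h1 h2
    omega
  let PS : Sylow 5 K := Sylow.ofCard (Subgroup.zpowers (⟨f, hfK⟩ : K))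
    (by rw [Nat.card_zpowers, Subgroup.orderOf_mk, hf, hfac, pow_one])
  have hnorm : ∀ π : Equiv.Perm α, (∀ w, w ∈ t ↔ π w ∈ t) →
      ∃ a : G, (∀ w ∈ t, a • w = π w) ∧ ∃ i : ℕ, a * f * a⁻¹ = f ^ i := by
    intro π hπ
    obtain ⟨e⟩ : Nonempty (Fin 3 ≃ t) := Finite.card_eq.1 (by rw [Nat.card_fin, Nat.card_coe_set_eq, htc])
    let e' : Fin 3 ↪ α := ⟨fun i => (e i : α), Subtype.val_injective.comp e.injective⟩
    obtain ⟨h, hh⟩ := h3.exists_smul_eq e' (e'.trans π.toEmbedding)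
    have hhx : ∀ w ∈ t, h • w = π w := fun w hw => by
      have h1 := DFunLike.congr_fun hh (e.symm ⟨w, hw⟩)
      have h2 : e' (e.symm ⟨w, hw⟩) = w := congrArg Subtype.val (e.apply_symm_apply ⟨w, hw⟩)
      rw [← h2]; exact h1
    have hinvt : ∀ w ∈ t, h⁻¹ • w ∈ t := fun w hw => by
      have hy : π⁻¹ w ∈ t := (hπ _).2 (by simpa using hw)
      have h1 := hhx _ hy
      rw [Equiv.Perm.inv_def, Equiv.apply_symm_apply] at h1
      rw [← Equiv.Perm.inv_def] at h1
      rwa [inv_smul_eq_iff.2 h1.symm]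
    have hmemK : h * f * h⁻¹ ∈ K := (mem_fixingSubgroup_iff G).2 fun w hw => by
      rw [mul_smul, mul_smul, (mem_fixingSubgroup_iff G).1 hfK _ (hinvt w hw), smul_inv_smul]
    let QS : Sylow 5 K := Sylow.ofCard (Subgroup.zpowers (⟨_, hmemK⟩ : K)) (by
      rw [Nat.card_zpowers, Subgroup.orderOf_mk, show h * f * h⁻¹ = MulAut.conj h f from rfl,
        MulEquiv.orderOf_eq, hf, hfac, pow_one])
    obtain ⟨k, hk⟩ := MulAction.exists_smul_eq K QS PS
    have hmem : k * ⟨_, hmemK⟩ * k⁻¹ ∈ (PS : Subgroup K) := by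
      rw [← hk, Sylow.coe_subgroup_smul]
      exact Subgroup.smul_mem_pointwise_smul _ (MulAut.conj k) _ (Subgroup.mem_zpowers _)
    obtain ⟨i, hi⟩ := mem_powers_iff_mem_zpowers.2 hmem
    refine ⟨(k : G) * h, fun w hw => ?_, i, ?_⟩
    · rw [mul_smul, hhx w hw, hKfix k _ ((hπ w).1 hw)]
    · have := congrArg Subtype.val hi
      simp only [Subgroup.coe_mul, Subgroup.coe_inv, SubmonoidClass.coe_pow] at this
      rw [this, mul_inv_rev]; group
  obtain ⟨x, y, z, hxy, hxz, hyz, htxyz⟩ := Set.ncard_eq_three.1 htc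
  have hswap : ∀ u v, u ∈ t → v ∈ t → ∀ w, w ∈ t ↔ Equiv.swap u v w ∈ t := by
    intro u v hu hv w
    rw [Equiv.swap_apply_def]
    split_ifs with h1 h2
    · subst h1; simp [hu, hv]
    · subst h2; simp [hu, hv]
    · rfl
  have hxt : x ∈ t := by simp [htxyz]
  have hyt : y ∈ t := by simp [htxyz]
  have hzt : z ∈ t := by simp [htxyz]
  obtain ⟨a, ha, ia, hia⟩ := hnorm _ (hswap x y hxt hyt)
  obtain ⟨b, hb, ib, hib⟩ := hnorm _ (hswap x z hxt hzt)
  set c : G := a⁻¹ * b⁻¹ * a * b with hc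
  set D : Equiv.Perm α := Equiv.swap x y * Equiv.swap x z * (Equiv.swap x y * Equiv.swap x z) with hD
  have hinvf : ∀ (u : G) (π : Equiv.Perm α), (∀ w ∈ t, u • w = π w) → (∀ w, w ∈ t ↔ π w ∈ t) → π⁻¹ = π →
      ∀ w ∈ t, u⁻¹ • w = π w := fun u π hu hπ hinv w hw => by
    rw [inv_smul_eq_iff, hu _ ((hπ w).1 hw)]
    have := π.symm_apply_apply w
    rw [← Equiv.Perm.inv_def, hinv] at this
    exact this.symm
  have hct : ∀ w ∈ t, c • w = D w ∧ D w ∈ t := fun w hw => by
    have hm1 := (hswap x z hxt hzt w).1 hw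
    have hm2 := (hswap x y hxt hyt _).1 hm1
    have hm3 := (hswap x z hxt hzt _).1 hm2
    refine ⟨?_, (hswap x y hxt hyt _).1 hm3⟩
    rw [hc, mul_smul, mul_smul, mul_smul, hb w hw, ha _ hm1,
      hinvf b _ hb (hswap x z hxt hzt) (Equiv.swap_inv _ _) _ hm2,
      hinvf a _ ha (hswap x y hxt hyt) (Equiv.swap_inv _ _) _ hm3]
    rfl
  have hcf : c * f = f * c := by
    have conjpow : ∀ (u : G) (i j : ℕ), u * f * u⁻¹ = f ^ i → u * f ^ j * u⁻¹ = f ^ (i * j) := fun u i j h => by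
      rw [pow_mul, ← h, conj_pow]
    have h1 : a * b * f * (a * b)⁻¹ = b * a * f * (b * a)⁻¹ := by
      calc a * b * f * (a * b)⁻¹ = a * (b * f * b⁻¹) * a⁻¹ := by group
        _ = f ^ (ia * ib) := by rw [hib, conjpow a ia ib hia]
        _ = f ^ (ib * ia) := by rw [mul_comm]
        _ = b * (a * f * a⁻¹) * b⁻¹ := by rw [hia, conjpow b ib ia hib]
        _ = b * a * f * (b * a)⁻¹ := by group
    calc c * f = (b * a)⁻¹ * (a * b * f * (a * b)⁻¹) * (a * b) := by rw [hc]; group
      _ = (b * a)⁻¹ * (b * a * f * (b * a)⁻¹) * (a * b) := by rw [h1]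
      _ = f * c := by rw [hc]; group
  -- `c ^ 10` fixes the support of `f`
  set F : Perm α := (f : Perm α) with hF
  set C : Perm α := (c : Perm α) with hC
  have hCF : Commute C F := congrArg Subtype.val hcf
  have hpres : ∀ w, F w ≠ w → F (C w) ≠ C w := fun w hw h => hw (C.injective (by
    rw [← Perm.mul_apply, hCF.eq, Perm.mul_apply, h]))
  have hsame : ∀ u v, F.SameCycle u v → F.SameCycle (C u) (C v) := by
    rintro u v ⟨i, hi⟩
    exact ⟨i, by rw [← Perm.mul_apply, ← (hCF.zpow_right i).eq, Perm.mul_apply, hi]⟩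
  have hsame' : ∀ u v, F.SameCycle (C u) (C v) → F.SameCycle u v := by
    rintro u v ⟨i, hi⟩
    exact ⟨i, C.injective (by rw [← Perm.mul_apply, (hCF.zpow_right i).eq, Perm.mul_apply, hi])⟩
  have htwo : ∀ u v w, F u ≠ u → F v ≠ v → F w ≠ w →
      F.SameCycle u v ∨ F.SameCycle u w ∨ F.SameCycle v w := by
    intro u v w hu hv hw
    by_contra hno
    push Not at hno
    have hm : ∀ {q}, F q ≠ q → F.cycleOf q ∈ F.cycleFactorsFinset := fun hq =>
      Perm.cycleOf_mem_cycleFactorsFinset_iff.2 (Perm.mem_support.2 hq)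
    have hne : ∀ {q r}, ¬ F.SameCycle q r → F r ≠ r → F.cycleOf q ≠ F.cycleOf r := fun {q r} hqr hr h => by
      have : r ∈ (F.cycleOf q).support := by
        rw [h]; exact Perm.mem_support_cycleOf_iff.2 ⟨Perm.SameCycle.refl _ _, Perm.mem_support.2 hr⟩
      exact hqr (Perm.mem_support_cycleOf_iff.1 this).1
    have hsub : ({F.cycleOf u, F.cycleOf v, F.cycleOf w} : Finset (Perm α)) ⊆ F.cycleFactorsFinset := by
      intro q hq
      simp only [Finset.mem_insert, Finset.mem_singleton] at hq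
      rcases hq with rfl | rfl | rfl <;> apply hm <;> assumption
    have h1 := Finset.card_le_card hsub
    rw [Finset.card_eq_three.2 ⟨_, _, _, hne hno.1 hv, hne hno.2.1 hw, hne hno.2.2 hw, rfl⟩] at h1
    have h2 : F.cycleFactorsFinset.card = 2 := by
      have h' := congrArg Multiset.card hn
      rw [Perm.cycleType_def, Multiset.card_map, Multiset.card_replicate] at h'
      exact h'
    omega
  have hsquare : ∀ w, F w ≠ w → (C ^ 10) w = w := by
    intro w hw
    have h2 : F.SameCycle w (C (C w)) := by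
      rcases htwo w (C w) (C (C w)) hw (hpres _ hw) (hpres _ (hpres _ hw)) with h | h | h
      · exact h.trans (hsame _ _ h)
      · exact h
      · exact (hsame' _ _ h).trans h
    obtain ⟨j, hj⟩ := h2
    have hC2 : Commute (C ^ 2) (F ^ j) := (hCF.pow_left 2).zpow_right j
    have hit : ∀ k : ℕ, (C ^ (2 * k)) w = (F ^ (j * k)) w := by
      intro k
      induction k with
      | zero => simp
      | succ k ih =>
        have h4 : Commute (C ^ 2) (F ^ (j * (k : ℤ))) := (hCF.pow_left 2).zpow_right _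
        rw [show 2 * (k + 1) = 2 + 2 * k by ring, pow_add, Perm.mul_apply, ih, ← Perm.mul_apply,
          h4.eq, Perm.mul_apply, sq, Perm.mul_apply, ← hj, ← Perm.mul_apply, ← zpow_add]
        push_cast; ring_nf
    rw [show 10 = 2 * 5 from rfl, hit, mul_comm, zpow_mul, zpow_natCast, ← hford, pow_orderOf_eq_one,
      one_zpow, Perm.one_apply]
  have hcn : ∀ k : ℕ, ∀ w ∈ t, (C ^ k) w = (D ^ k) w ∧ (D ^ k) w ∈ t := by
    intro k
    induction k with
    | zero => intro w hw; simp [hw]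
    | succ k ih =>
      intro w hw
      rw [pow_succ', pow_succ', Perm.mul_apply, Perm.mul_apply, (ih w hw).1]
      exact hct _ (ih w hw).2
  have hDfix : ∀ w, w ∉ t → D w = w := fun w hw => by
    have hne : ∀ u, u ∈ t → w ≠ u := fun u hu h => hw (h ▸ hu)
    simp [hD, Equiv.Perm.mul_apply, Equiv.swap_apply_of_ne_of_ne (hne x hxt) (hne z hzt),
      Equiv.swap_apply_of_ne_of_ne (hne x hxt) (hne y hyt)]
  have hcp : ((c ^ 10 : G) : Perm α) = D ^ 10 := Equiv.ext fun w => by
    rw [SubmonoidClass.coe_pow, ← hC]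
    by_cases hw : w ∈ t
    · exact (hcn 10 w hw).1
    · rw [hsquare w (fun h => hw ((htmem w).2 h)), Perm.pow_apply_eq_self_of_apply_eq_self (hDfix w hw)]
  refine Equiv.Perm.alternatingGroup_le_of_isPreprimitive_of_isThreeCycle_mem hG (g := D ^ 10) ?_ (hcp ▸ (c ^ 10).2)
  have hT3 : (Equiv.swap x y * Equiv.swap x z).IsThreeCycle := Equiv.Perm.isThreeCycle_swap_mul_swap_same hxy hxz hyz
  have h := hT3.isThreeCycle_sq
  rw [show D = (Equiv.swap x y * Equiv.swap x z) ^ 2 from (sq _).symm, ← pow_mul,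
    ← pow_mod_orderOf, hT3.orderOf, show 2 * 10 % 3 = 2 from rfl, sq]
  exact h

/-- The main combination: primes `p < q` and generators of these orders moving every point. -/
theorem core (G : Subgroup (Perm α)) (hGalt : G ≤ alternatingGroup α) {x y : Perm α} (hx : x ∈ G)
    (hy : y ∈ G) {p q : ℕ} (hxp : orderOf x = p) (hyq : orderOf y = q) (hp : p.Prime) (hq : q.Prime)
    (hd2 : Fintype.card α < 2 * q) (hdq : q ≤ Fintype.card α) (hsum : Fintype.card α < p + q)
    (hcov : ∀ a, x a ≠ a ∨ y a ≠ a)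
    (hcases : (Fintype.card α < 2 * p ∧ (p + 3 ≤ Fintype.card α ∧ 5 ≤ Fintype.card α ∨ (p = 3 ∧ 5 ≤ q) ∨
        (p = 5 ∧ q = 7 ∧ Fintype.card α = 7) ∨ (p = 11 ∧ q = 13 ∧ Fintype.card α = 13))) ∨
      (q + 3 ≤ Fintype.card α ∧ 5 ≤ q) ∨ (p = 3 ∧ q = 5 ∧ Fintype.card α = 6)) :
    ∃ d : ℕ, 5 ≤ d ∧ Nonempty (G ≃* alternatingGroup (Fin d)) := by
  have hyc : y.IsCycle := Perm.isCycle_of_prime_order' (hyq ▸ hq) (hyq ▸ hd2)
  have hys : y.support.card = q := hyc.orderOf.symm.trans hyq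
  have htr : IsPretransitive G α := isPretransitive_of_pair G hx hy (hxp ▸ hp) hyc (by rw [hxp, hys]; exact hsum) hcov
  have hprim : IsPreprimitive G α := isPreprimitive_of_cycle G hy hyc (hys ▸ hq) (hys ▸ hd2)
  have fin : alternatingGroup α ≤ G → 5 ≤ Fintype.card α →
      ∃ d : ℕ, 5 ≤ d ∧ Nonempty (G ≃* alternatingGroup (Fin d)) :=
    fun h h5 => ⟨_, h5, exists_alt_eq h hGalt⟩
  rcases hcases with ⟨h2p, h⟩ | ⟨h3, h5⟩ | ⟨rfl, rfl, hd⟩
  · have hxc : x.IsCycle := Perm.isCycle_of_prime_order' (hxp ▸ hp) (hxp ▸ h2p)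
    have hxs : x.support.card = p := hxc.orderOf.symm.trans hxp
    rcases h with ⟨h3, h5⟩ | ⟨rfl, h5⟩ | ⟨rfl, rfl, hd⟩ | ⟨rfl, rfl, hd⟩
    · exact fin (Cfsg.Agent.S0713.result G hprim hp h5 h3 hxc hxs hx) h5
    · exact fin (Equiv.Perm.alternatingGroup_le_of_isPreprimitive_of_isThreeCycle_mem hprim
        (card_support_eq_three_iff.1 hxs) hx) (by omega)
    · exact fin (degree_seven G hGalt hprim hd hx hxc hxs) (by omega)
    · have h3 := three_transitive G hprim hx hxc (hxs ▸ hp) (by rw [hxs, hd])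
      exact fin (degree_thirteen_five G hprim h3 hd (five_dvd_card G hGalt h3 hd hx hxc hxs)) (by omega)
  · exact fin (Cfsg.Agent.S0713.result G hprim hq (by omega) h3 hyc hys hy) (by omega)
  · refine degree_six G hGalt hd ?_ ?_
    · rw [← hyq]
      exact Subgroup.orderOf_mk y hy ▸ orderOf_dvd_natCard (⟨y, hy⟩ : G)
    · rw [← hxp]
      exact Subgroup.orderOf_mk x hx ▸ orderOf_dvd_natCard (⟨x, hx⟩ : G)

end Cfsg.Agent.AltTwoPrimes
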