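import Mathlib.NumberTheory.Bertrand

set_option autoImplicit false

namespace Cfsg.Agent.AltTwoPrimes

open Nat

/-- The central binomial coefficient when few primes lie in `(n, 2n]`. -/
theorem centralBinom_le_of_few_primes (n k : ℕ) (hn : 2 < n)
    (hk : ((Finset.Ioc n (2 * n)).filter Nat.Prime).card ≤ k) :
    centralBinom n ≤ (2 * n) ^ sqrt (2 * n) * 4 ^ (2 * n / 3) * (2 * n) ^ k := by
  have n2 : 1 ≤ 2 * n := by omega
  let f := fun x : ℕ => x ^ n.centralBinom.factorization x
  let S := (Finset.range (2 * n / 3 + 1)).filter Nat.Prime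
  let T := (Finset.Ioc n (2 * n)).filter Nat.Prime
  have hdisj : Disjoint S T := by
    rw [Finset.disjoint_left]
    intro x hx hx'
    simp only [S, T, Finset.mem_filter, Finset.mem_range, Finset.mem_Ioc] at hx hx'
    omega
  have hprod : n.centralBinom = ∏ x ∈ S ∪ T, f x := by
    conv_lhs => rw [← prod_pow_factorization_centralBinom n]
    refine (Finset.prod_subset ?_ ?_).symm
    · intro x hx
      simp only [S, T, Finset.mem_union, Finset.mem_filter, Finset.mem_range, Finset.mem_Ioc] at hx
      simp only [Finset.mem_range]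
      omega
    · intro x hx hx'
      simp only [S, T, Finset.mem_union, Finset.mem_filter, Finset.mem_range, Finset.mem_Ioc] at hx hx'
      by_cases hp : x.Prime
      · have h1 : ¬ x < 2 * n / 3 + 1 := fun h => hx' (Or.inl ⟨h, hp⟩)
        have h2 : x ≤ n := by
          by_contra h
          exact hx' (Or.inr ⟨⟨by omega, by omega⟩, hp⟩)
        rw [factorization_centralBinom_of_two_mul_self_lt_three_mul hn h2 (by omega), pow_zero]
      · rw [factorization_eq_zero_of_not_prime _ hp, pow_zero]
  rw [hprod, Finset.prod_union hdisj]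
  refine Nat.mul_le_mul ?_ ?_
  · rw [← Finset.prod_filter_mul_prod_filter_not S (· ≤ sqrt (2 * n))]
    refine Nat.mul_le_mul ?_ ?_
    · refine (Finset.prod_le_prod' fun p _ => (pow_factorization_choose_le (by omega) : f p ≤ 2 * n)).trans ?_
      rw [Finset.prod_const]
      refine Nat.pow_le_pow_right n2 ((Finset.card_le_card fun x hx => ?_).trans
        (show (Finset.Icc 1 (sqrt (2 * n))).card ≤ sqrt (2 * n) by simp))
      obtain ⟨h1, h2⟩ := Finset.mem_filter.1 hx
      exact Finset.mem_Icc.mpr ⟨(Finset.mem_filter.1 h1).2.one_lt.le, h2⟩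
    · refine le_trans ?_ (primorial_le_four_pow (2 * n / 3))
      refine (Finset.prod_le_prod' fun p hp => (?_ : f p ≤ p)).trans ?_
      · obtain ⟨h1, h2⟩ := Finset.mem_filter.1 hp
        refine (Nat.pow_le_pow_right (Finset.mem_filter.1 h1).2.pos ?_).trans (pow_one p).le
        exact Nat.factorization_choose_le_one (sqrt_lt'.mp <| not_le.1 h2)
      refine Finset.prod_le_prod_of_subset_of_one_le' (Finset.filter_subset _ _) ?_
      exact fun p hp _ => (Finset.mem_filter.1 hp).2.one_lt.le
  · refine (Finset.prod_le_prod' fun p _ => (pow_factorization_choose_le (by omega) : f p ≤ 2 * n)).trans ?_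
    rw [Finset.prod_const]
    exact Nat.pow_le_pow_right n2 hk

theorem eight_mul_add_one_le_two_pow (j : ℕ) (hj : 7 ≤ j) : 8 * j + 1 ≤ 2 ^ (j - 1) := by
  induction j, hj using Nat.le_induction with
  | base => norm_num
  | succ j hj ih =>
    obtain ⟨i, rfl⟩ : ∃ i, j = i + 1 := ⟨j - 1, by omega⟩
    simp only [Nat.add_sub_cancel] at *
    rw [pow_succ]
    omega

theorem main_inequality (n : ℕ) (hn : 1013 ≤ n) :
    n * ((2 * n) ^ sqrt (2 * n) * 4 ^ (2 * n / 3) * (2 * n) ^ 2) ≤ 4 ^ n := by
  set s := sqrt (2 * n) with hs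
  have h1 : s * s ≤ 2 * n := Nat.sqrt_le _
  have h2 : 2 * n < (s + 1) * (s + 1) := Nat.lt_succ_sqrt _
  have h45 : 45 ≤ s := Nat.le_sqrt.2 (by omega)
  obtain ⟨j, hj1, hj2⟩ : ∃ j, s + 1 ≤ 2 ^ j ∧ 6 * j * (s + 3) + 6 ≤ s * s := by
    rcases le_or_gt (Nat.log 2 (s + 1) + 1) 6 with h | h
    · refine ⟨6, ?_, ?_⟩
      · exact (Nat.lt_pow_succ_log_self (by norm_num) (s + 1)).le.trans (Nat.pow_le_pow_right (by norm_num) h)
      · nlinarith [Nat.mul_le_mul_right s h45]
    · refine ⟨Nat.log 2 (s + 1) + 1, (Nat.lt_pow_succ_log_self (by norm_num) (s + 1)).le, ?_⟩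
      have h3 := eight_mul_add_one_le_two_pow (Nat.log 2 (s + 1) + 1) (by omega)
      have h4 : 2 ^ Nat.log 2 (s + 1) ≤ s + 1 := Nat.pow_log_le_self 2 (by omega)
      simp only [Nat.add_sub_cancel] at h3
      generalize Nat.log 2 (s + 1) + 1 = j at *
      have h5 : 8 * j ≤ s := by omega
      nlinarith [Nat.mul_le_mul_right s h5, Nat.mul_le_mul_left j h5]
  have hpow : n * (2 * n) ^ (s + 2) ≤ 4 ^ (n / 3) := by
    calc n * (2 * n) ^ (s + 2) ≤ (2 * n) ^ (s + 3) := by
          rw [pow_succ' (2 * n) (s + 2)]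
          exact Nat.mul_le_mul_right _ (by omega)
      _ ≤ ((s + 1) * (s + 1)) ^ (s + 3) := Nat.pow_le_pow_left h2.le _
      _ ≤ (2 ^ j * 2 ^ j) ^ (s + 3) := Nat.pow_le_pow_left (Nat.mul_le_mul hj1 hj1) _
      _ = 4 ^ (j * (s + 3)) := by
          rw [← mul_pow, show (2 * 2 : ℕ) = 4 from rfl, ← pow_mul]
      _ ≤ 4 ^ (n / 3) := Nat.pow_le_pow_right (by norm_num) (by
          rw [Nat.le_div_iff_mul_le (by norm_num)]
          nlinarith)
  calc n * ((2 * n) ^ s * 4 ^ (2 * n / 3) * (2 * n) ^ 2)
      = n * (2 * n) ^ (s + 2) * 4 ^ (2 * n / 3) := by rw [pow_add]; ring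
    _ ≤ 4 ^ (n / 3) * 4 ^ (2 * n / 3) := Nat.mul_le_mul_right _ hpow
    _ ≤ 4 ^ n := by
        rw [← pow_add]
        exact Nat.pow_le_pow_right (by norm_num) (by omega)

/-- Between `n` and `2n` there are three primes, for `n ≥ 9`. -/
theorem exists_three_primes (n : ℕ) (hn : 9 ≤ n) :
    ∃ p q : ℕ, p.Prime ∧ q.Prime ∧ n < p ∧ p + 4 ≤ q ∧ q ≤ 2 * n := by
  rcases lt_or_ge n 1013 with h | h
  · by_cases h1 : n < 11
    · exact ⟨11, 17, by norm_num, by norm_num, by omega, by omega, by omega⟩
    by_cases h2 : n < 13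
    · exact ⟨13, 19, by norm_num, by norm_num, by omega, by omega, by omega⟩
    by_cases h3 : n < 17
    · exact ⟨17, 23, by norm_num, by norm_num, by omega, by omega, by omega⟩
    by_cases h4 : n < 23
    · exact ⟨23, 31, by norm_num, by norm_num, by omega, by omega, by omega⟩
    by_cases h5 : n < 37
    · exact ⟨37, 43, by norm_num, by norm_num, by omega, by omega, by omega⟩
    by_cases h6 : n < 67
    · exact ⟨67, 73, by norm_num, by norm_num, by omega, by omega, by omega⟩
    by_cases h7 : n < 113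
    · exact ⟨113, 131, by norm_num, by norm_num, by omega, by omega, by omega⟩
    by_cases h8 : n < 199
    · exact ⟨199, 223, by norm_num, by norm_num, by omega, by omega, by omega⟩
    by_cases h9 : n < 383
    · exact ⟨383, 397, by norm_num, by norm_num, by omega, by omega, by omega⟩
    by_cases h10 : n < 751
    · exact ⟨751, 761, by norm_num, by norm_num, by omega, by omega, by omega⟩
    · exact ⟨1489, 1499, by norm_num, by norm_num, by omega, by omega, by omega⟩
  · have hcard : 2 < ((Finset.Ioc n (2 * n)).filter Nat.Prime).card := by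
      by_contra hc
      have h1 := Nat.four_pow_lt_mul_centralBinom n (by omega)
      have h2 := centralBinom_le_of_few_primes n 2 (by omega) (by omega)
      have h3 := main_inequality n h
      nlinarith [Nat.mul_le_mul_left n h2]
    set T := (Finset.Ioc n (2 * n)).filter Nat.Prime with hT
    have hne : T.Nonempty := Finset.card_pos.1 (by omega)
    have hmin := Finset.min'_mem T hne
    have hmax := Finset.max'_mem T hne
    simp only [hT, Finset.mem_filter, Finset.mem_Ioc] at hmin hmax
    refine ⟨T.min' hne, T.max' hne, hmin.2, hmax.2, hmin.1.1, ?_, hmax.1.2⟩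
    by_contra hlt
    have hodd : ∀ x ∈ T, x % 2 = 1 := fun x hx => by
      simp only [hT, Finset.mem_filter, Finset.mem_Ioc] at hx
      exact hx.2.eq_two_or_odd.resolve_left (by omega)
    have hsub : T ⊆ {T.min' hne, T.min' hne + 2} := fun x hx => by
      have h1 := T.min'_le x hx
      have h2 := T.le_max' x hx
      have h3 := hodd x hx
      have h4 := hodd _ (T.min'_mem hne)
      simp only [Finset.mem_insert, Finset.mem_singleton]
      omega
    have := (Finset.card_le_card hsub).trans Finset.card_le_two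
    omega

end Cfsg.Agent.AltTwoPrimes
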