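import Cfsg.Agent.AltTwoPrimes.Basic

set_option autoImplicit false

namespace Cfsg.Agent.AltTwoPrimes

open Equiv MulAction
open scoped Pointwise

variable {α : Type*} [Fintype α] [DecidableEq α]

omit [Fintype α] in
theorem exists_alt_eq [Fintype α] {G : Subgroup (Perm α)} (h : alternatingGroup α ≤ G) (hG : G ≤ alternatingGroup α) :
    Nonempty (G ≃* alternatingGroup (Fin (Fintype.card α))) :=
  ⟨(MulEquiv.subgroupCongr (le_antisymm hG h)).trans (Equiv.altCongrHom (Fintype.equivFin α))⟩

/-- Degree `p + 2`, `p` prime, with a `p`-cycle in a primitive group. -/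
theorem three_transitive (G : Subgroup (Perm α)) (hG : IsPreprimitive G α) {x : Perm α} (hx : x ∈ G)
    (hxc : x.IsCycle) (hp : x.support.card.Prime) (hd : Fintype.card α = x.support.card + 2) :
    IsMultiplyPretransitive G α 3 := by
  classical
  set t : Set α := (x.support : Set α)ᶜ with ht
  have hsc : t.ncard = 1 + 1 := by
    rw [ht, Set.ncard_compl, Set.ncard_coe_finset, Nat.card_eq_fintype_card, hd]
    omega
  have htr := Perm.isPretransitive_of_isCycle_mem hxc hx
  have hcardcompl : Nat.card (SubMulAction.ofFixingSubgroup G t) = x.support.card := by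
    rw [show Nat.card (SubMulAction.ofFixingSubgroup G t) = (tᶜ).ncard from Nat.card_coe_set_eq _, ht,
      compl_compl, Set.ncard_coe_finset]
  have hpp : MulAction.IsPreprimitive (fixingSubgroup G t) (SubMulAction.ofFixingSubgroup G t) :=
    MulAction.IsPreprimitive.of_prime_card (hcardcompl.symm ▸ hp)
  exact (hG.isMultiplyPreprimitive (n := 1) hsc
    (by rw [Nat.card_eq_fintype_card]; have := hp.two_le; omega) hpp).isMultiplyPretransitive

/-- The order of a 3-transitive group. -/
theorem card_three_transitive (G : Subgroup (Perm α)) (h : IsMultiplyPretransitive G α 3)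
    (s : Set α) (hs : s.ncard = 3) (d : ℕ) (hd : Fintype.card α = d + 3) :
    Nat.card G = (d + 3) * (d + 2) * (d + 1) * Nat.card (fixingSubgroup G s) := by
  have h1 := h.index_of_fixingSubgroup_mul hs
  rw [Nat.card_eq_fintype_card, hd, Nat.add_sub_cancel, Nat.factorial_succ, Nat.factorial_succ,
    Nat.factorial_succ] at h1
  have h2 : (fixingSubgroup G s).index = (d + 3) * (d + 2) * (d + 1) :=
    Nat.eq_of_mul_eq_mul_right d.factorial_pos (by rw [h1]; ring)
  rw [← (fixingSubgroup G s).index_mul_card, h2]

/-- A transitive group of degree `r + 1`, order `(r + 1) r`, is impossible when `r + 1` has two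
prime divisors: the stabiliser version for a group of degree `r + 2`. -/
theorem no_sharp_three (G : Subgroup (Perm α)) (h : IsMultiplyPretransitive G α 3) {r s t : ℕ}
    (hr : r.Prime) (hs : s.Prime) (ht : t.Prime) (hst : s ≠ t) (hsX : s ∣ r + 1) (htX : t ∣ r + 1)
    (hd : Fintype.card α = r + 2) (hcard : Nat.card G = (r + 2) * (r + 1) * r) : False := by
  classical
  obtain ⟨a⟩ : Nonempty α := Fintype.card_pos_iff.1 (by omega)
  have h2 : IsMultiplyPretransitive G α 2 := isMultiplyPretransitive_of_le (n := 3) (by omega)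
    (by rw [Nat.card_eq_fintype_card]; have := hr.two_le; omega)
  have htG : IsPretransitive G α := (isPreprimitive_of_is_two_pretransitive h2).toIsPretransitive
  have h1 := MulAction.index_stabilizer_of_transitive G a
  have h3 := (stabilizer G a).card_mul_index
  rw [h1, Nat.card_eq_fintype_card (α := α), hd, hcard] at h3
  have hGa : Nat.card (stabilizer G a) = (r + 1) * r :=
    Nat.eq_of_mul_eq_mul_right (by omega : 0 < r + 2) (by rw [h3]; ring)
  have := Fintype.ofFinite (SubMulAction.ofStabilizer G a)
  have hX : Fintype.card (SubMulAction.ofStabilizer G a) = r + 1 := by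
    have := SubMulAction.nat_card_ofStabilizer_add_one_eq (G := G) a
    rw [Nat.card_eq_fintype_card, Nat.card_eq_fintype_card, hd] at this
    omega
  have : IsPretransitive (stabilizer G a) (SubMulAction.ofStabilizer G a) :=
    is_one_pretransitive_iff.1 (SubMulAction.ofStabilizer.isMultiplyPretransitive.1 h2)
  have : FaithfulSMul (stabilizer G a) (SubMulAction.ofStabilizer G a) := ⟨fun {k l} hkl => by
    refine Subtype.ext (Subtype.ext (Equiv.ext fun z => ?_))
    by_cases hz : z = a
    · subst hz; exact k.2.trans l.2.symm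
    · exact congrArg Subtype.val (hkl ⟨z, hz⟩)⟩
  exact no_sharp hr hs ht hst hsX htX hX hGa

/-- Degree 7, a 5-cycle. -/
theorem degree_seven (G : Subgroup (Perm α)) (hGalt : G ≤ alternatingGroup α) (hG : IsPreprimitive G α)
    (hd : Fintype.card α = 7) {x : Perm α} (hx : x ∈ G) (hxc : x.IsCycle) (hxs : x.support.card = 5) :
    alternatingGroup α ≤ G := by
  classical
  have : Nontrivial α := Fintype.one_lt_card_iff_nontrivial.1 (by omega)
  have h3 := three_transitive G hG hx hxc (by rw [hxs]; norm_num) (by omega)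
  obtain ⟨s, -, hs⟩ := Set.exists_subset_card_eq (s := (Set.univ : Set α)) (n := 3)
    (by rw [Set.ncard_univ, Nat.card_eq_fintype_card]; omega)
  have hc := card_three_transitive G h3 s hs 4 hd
  generalize Nat.card (fixingSubgroup G s) = k at hc
  set H : Subgroup (alternatingGroup α) := G.subgroupOf (alternatingGroup α) with hH
  have hHc : Nat.card H = 210 * k := by
    rw [hH, Nat.card_congr (Subgroup.subgroupOfEquivOfLe hGalt).toEquiv, hc]
  have hA : Nat.card (alternatingGroup α) = 2520 := by
    rw [nat_card_alternatingGroup, Nat.card_eq_fintype_card, hd]; rfl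
  by_cases hT : H = ⊤
  · exact Subgroup.subgroupOf_eq_top.1 hT
  exfalso
  have h4 := card_le_factorial_index (by rw [Nat.card_eq_fintype_card]; omega) H hT
  have h5 := H.card_mul_index
  rw [hHc, hA] at h5
  rw [hA] at h4
  rcases Nat.lt_or_ge H.index 7 with h | h
  · generalize H.index = j at h h4
    interval_cases j <;> norm_num [Nat.factorial] at h4
  · have hk : k = 1 := by
      have h6 : k * 7 ≤ k * H.index := Nat.mul_le_mul_left _ h
      have h7 : k * H.index = 12 := by nlinarith
      have hk2 : k ≤ 1 := by omega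
      rcases Nat.le_one_iff_eq_zero_or_eq_one.1 hk2 with rfl | rfl <;> omega
    exact no_sharp_three G h3 (r := 5) (s := 2) (t := 3) (by norm_num) (by norm_num) (by norm_num)
      (by norm_num) (by norm_num) (by norm_num) hd (by rw [hc, hk])

/-- Degree 6, double 3-cycle and a 5-cycle. -/
theorem degree_six (G : Subgroup (Perm α)) (hGalt : G ≤ alternatingGroup α) [IsPretransitive G α]
    (hd : Fintype.card α = 6) (h5 : 5 ∣ Nat.card G) (h3 : 3 ∣ Nat.card G) :
    ∃ d : ℕ, 5 ≤ d ∧ Nonempty (G ≃* alternatingGroup (Fin d)) := by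
  classical
  have : Nontrivial α := Fintype.one_lt_card_iff_nontrivial.1 (by omega)
  obtain ⟨a⟩ : Nonempty α := inferInstance
  have h1 := MulAction.index_stabilizer_of_transitive G a
  have h2 := (stabilizer G a).index_mul_card
  rw [h1, Nat.card_eq_fintype_card (α := α), hd] at h2
  have h6 : 6 ∣ Nat.card G := Dvd.intro _ h2
  have h30 : 30 ∣ Nat.card G := Nat.Coprime.mul_dvd_of_dvd_of_dvd (by norm_num : Nat.Coprime 5 6) h5 h6
  set H : Subgroup (alternatingGroup α) := G.subgroupOf (alternatingGroup α) with hH
  have hHc : Nat.card H = Nat.card G := Nat.card_congr (Subgroup.subgroupOfEquivOfLe hGalt).toEquiv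
  have hA : Nat.card (alternatingGroup α) = 360 := by
    rw [nat_card_alternatingGroup, Nat.card_eq_fintype_card, hd]; rfl
  by_cases hT : H = ⊤
  · exact ⟨6, by norm_num, hd ▸ exists_alt_eq (Subgroup.subgroupOf_eq_top.1 hT) hGalt⟩
  have h4 := card_le_factorial_index (by rw [Nat.card_eq_fintype_card]; omega) H hT
  have h5 := H.card_mul_index
  rw [hHc, hA] at h5
  rw [hA] at h4
  obtain ⟨k, hk⟩ := h30
  rw [hk] at h5
  have hj : k * H.index = 12 := by nlinarith
  rcases Nat.lt_or_ge H.index 6 with h | h
  · generalize H.index = j at h h4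
    interval_cases j <;> norm_num [Nat.factorial] at h4
  have hk2 : k = 1 ∨ k = 2 := by
    have h7 : k * 6 ≤ k * H.index := Nat.mul_le_mul_left _ h
    have hk3 : k ≤ 2 := by omega
    interval_cases k <;> omega
  rcases hk2 with rfl | rfl
  · exfalso
    exact no_sharp (H := G) (X := α) (r := 5) (s := 2) (t := 3) (by norm_num) (by norm_num)
      (by norm_num) (by norm_num) (by norm_num) (by norm_num) hd (by rw [hk])
  have hidx : H.index = 6 := by omega
  -- the action on the six cosets of `H`
  have := alternatingGroup.isSimpleGroup (α := α) (by rw [Nat.card_eq_fintype_card]; omega)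
  let Q := alternatingGroup α ⧸ H
  let : Fintype Q := Fintype.ofFinite _
  have hQ : Fintype.card Q = 6 := by
    rw [← Nat.card_eq_fintype_card]; exact hidx
  let ψ := MulAction.toPermHom (alternatingGroup α) Q
  let o : Q := ((1 : alternatingGroup α) : Q)
  have hstab : ∀ g : alternatingGroup α, g • o = o → g ∈ H := fun g hg => by
    rwa [MulAction.Quotient.smul_coe, smul_eq_mul, mul_one, QuotientGroup.eq, mul_one,
      inv_mem_iff] at hg
  have hψ : Function.Injective ψ := by
    rw [← MonoidHom.ker_eq_bot_iff]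
    refine (Subgroup.Normal.eq_bot_or_eq_top (MonoidHom.normal_ker ψ)).resolve_right fun h => hT ?_
    rw [eq_top_iff, ← h]
    intro g hg
    exact hstab g (DFunLike.congr_fun (show ψ g = 1 from hg) o)
  have hQn : Nontrivial Q := Fintype.one_lt_card_iff_nontrivial.1 (by omega)
  have hrange : ψ.range = alternatingGroup Q := by
    apply Equiv.Perm.eq_alternatingGroup_of_index_eq_two
    have h7 := ψ.range.index_mul_card
    rw [← Nat.card_congr (MonoidHom.ofInjective hψ).toEquiv, hA, Nat.card_perm,
      Nat.card_eq_fintype_card, hQ, show Nat.factorial 6 = 2 * 360 from rfl] at h7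
    exact Nat.eq_of_mul_eq_mul_right (by norm_num) h7
  have hev : ∀ g : alternatingGroup α, Perm.sign (ψ g) = 1 := fun g => by
    have : ψ g ∈ alternatingGroup Q := hrange ▸ ⟨g, rfl⟩
    exact this
  have hfix : ∀ g : H, ∀ z, (ψ g.1) z ≠ o ↔ z ≠ o := fun g z => by
    have ho : (ψ g.1) o = o := by
      show g.1 • o = o
      rw [MulAction.Quotient.smul_coe, smul_eq_mul, mul_one, QuotientGroup.eq, mul_one]
      exact inv_mem g.2
    exact not_congr ⟨fun hh => (ψ g.1).injective (hh.trans ho.symm), fun hh => hh ▸ ho⟩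
  let R := {z : Q // z ≠ o}
  have hR : Fintype.card R = 5 := by
    rw [Fintype.card_subtype_compl, hQ, Fintype.card_subtype_eq]
  let θ : H →* alternatingGroup R :=
    { toFun := fun g => ⟨(ψ g.1).subtypePerm (hfix g), by
        show Perm.sign _ = 1
        rw [Perm.sign_subtypePerm _ _ (fun z hz => ?_)]
        · exact hev g.1
        · intro hzo; subst hzo
          exact hz ((not_ne_iff.1 ((hfix g o).not.2 (not_not.2 rfl))))⟩
      map_one' := Subtype.ext (Equiv.ext fun z => Subtype.ext (by
        show (ψ 1) z.1 = z.1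
        rw [map_one]; rfl))
      map_mul' := fun g l => Subtype.ext (Equiv.ext fun z => Subtype.ext (by
        show (ψ (g.1 * l.1)) z.1 = (ψ g.1) ((ψ l.1) z.1)
        rw [map_mul]; rfl)) }
  have hθ : Function.Injective θ := fun g l hgl => by
    refine Subtype.ext (hψ (Equiv.ext fun z => ?_))
    by_cases hz : z = o
    · subst hz
      exact (not_ne_iff.1 ((hfix g o).not.2 (not_not.2 rfl))).trans
        (not_ne_iff.1 ((hfix l o).not.2 (not_not.2 rfl))).symm
    · exact congrArg Subtype.val (DFunLike.congr_fun (congrArg Subtype.val hgl) (⟨z, hz⟩ : R))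
  have hbij : Function.Bijective θ := hθ.bijective_of_nat_card_le (by
    have : Nontrivial R := Fintype.one_lt_card_iff_nontrivial.1 (by omega)
    rw [hHc, hk, nat_card_alternatingGroup, Nat.card_eq_fintype_card, hR]; rfl)
  refine ⟨5, le_rfl, ?_⟩
  exact ⟨(Subgroup.subgroupOfEquivOfLe hGalt).symm.trans ((MulEquiv.ofBijective θ hbij).trans
    (Equiv.altCongrHom (Fintype.equivFinOfCardEq hR)))⟩

/-- Degree 13 without elements of order 5. -/
theorem five_dvd_card (G : Subgroup (Perm α)) (hGalt : G ≤ alternatingGroup α)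
    (h3 : IsMultiplyPretransitive G α 3) (hd : Fintype.card α = 13) {x : Perm α} (hx : x ∈ G)
    (hxc : x.IsCycle) (hxs : x.support.card = 11) : 5 ∣ Nat.card G := by
  classical
  by_contra h5
  have : Fact (Nat.Prime 11) := ⟨by norm_num⟩
  set X : G := ⟨x, hx⟩
  -- the stabiliser of the two fixed points
  set T : Set α := (x.support : Set α)ᶜ with hT
  have hTc : T.ncard = 2 := by
    rw [hT, Set.ncard_compl, Set.ncard_coe_finset, Nat.card_eq_fintype_card, hd, hxs]
  set M : Subgroup G := fixingSubgroup G T with hM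
  have hMfix : ∀ m : M, ∀ z, x z = z → ((m : G) : Perm α) z = z := fun m z hz =>
    (mem_fixingSubgroup_iff G).1 m.2 z (by simpa [hT] using hz)
  have hXM : X ∈ M := (mem_fixingSubgroup_iff G).2 fun z hz => by
    show x z = z
    simpa [hT] using hz
  set Xm : M := ⟨X, hXM⟩
  have hordx : orderOf x = 11 := hxc.orderOf.trans hxs
  have hordX : orderOf Xm = 11 := by
    rw [← Subgroup.orderOf_coe, ← Subgroup.orderOf_coe]; exact hordx
  have hMc : Nat.card M * (13 * 12) = Nat.card G := by
    have h2 : IsMultiplyPretransitive G α 2 := isMultiplyPretransitive_of_le (n := 3) (by omega)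
      (by rw [Nat.card_eq_fintype_card]; omega)
    have h1 := h2.index_of_fixingSubgroup_mul hTc
    rw [Nat.card_eq_fintype_card, hd, show (13 - 2 : ℕ) = 11 from rfl,
      show Nat.factorial 13 = (13 * 12) * Nat.factorial 11 by rfl] at h1
    rw [← Nat.eq_of_mul_eq_mul_right (Nat.factorial_pos 11) h1, ← hM, mul_comm]
    exact M.index_mul_card
  let φ : M →* Perm α := G.subtype.comp M.subtype
  have hφ : Function.Injective φ := Subtype.val_injective.comp Subtype.val_injective
  have hfac : (Nat.card M).factorization 11 = 1 := by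
    have hlow : 1 ≤ (Nat.card M).factorization 11 := by
      rw [← (Fact.out : Nat.Prime 11).pow_dvd_iff_le_factorization Nat.card_pos.ne', pow_one, ← hordX]
      exact orderOf_dvd_natCard _
    have hup : ¬ 11 ^ 2 ∣ Nat.card M := fun h => by
      have := h.trans (Subgroup.card_dvd_of_injective φ hφ)
      rw [Nat.card_perm, Nat.card_eq_fintype_card, hd] at this
      norm_num [Nat.factorial] at this
    rw [(Fact.out : Nat.Prime 11).pow_dvd_iff_le_factorization Nat.card_pos.ne'] at hup
    omega
  let P : Sylow 11 M := Sylow.ofCard (Subgroup.zpowers Xm) (by rw [Nat.card_zpowers, hordX, hfac, pow_one])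
  have hP : Subgroup.normalizer ((P : Subgroup M) : Set M) ≤ Subgroup.centralizer ((P : Subgroup M) : Set M) := by
    intro m hm
    obtain ⟨i, hi⟩ := mem_powers_iff_mem_zpowers.2
      ((Subgroup.mem_normalizer_iff.1 hm Xm).1 (Subgroup.mem_zpowers Xm))
    have hconj : φ m * x * (φ m)⁻¹ = x ^ i := by
      have := congrArg φ hi
      simpa [φ, Xm, X] using this.symm
    suffices hcomm : φ m * x = x * φ m by
      rw [Subgroup.mem_centralizer_iff]
      intro z hz
      obtain ⟨j, rfl⟩ := Subgroup.mem_zpowers_iff.1 (show z ∈ Subgroup.zpowers Xm from hz)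
      have hX : Commute m Xm := hφ (by simpa [φ, Xm, X] using hcomm)
      exact (hX.zpow_right j).eq.symm
    set u : ZMod 11 := (i : ZMod 11) with hu
    have hiter : ∀ k : ℕ, φ m ^ k * x * (φ m ^ k)⁻¹ = x ^ i ^ k := by
      intro k
      induction k with
      | zero => simp
      | succ k ih =>
        rw [pow_succ, mul_inv_rev, ← mul_assoc, mul_assoc (φ m ^ k), mul_assoc (φ m ^ k), hconj,
          pow_succ, mul_comm (i ^ k), pow_mul', ← conj_pow, ih, ← pow_mul, mul_comm]
    set k := orderOf (φ m) with hk
    have hk1 : x ^ i ^ k = x ^ 1 := by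
      rw [← hiter k, hk, pow_orderOf_eq_one]; simp
    rw [pow_eq_pow_iff_modEq, hordx, ← ZMod.natCast_eq_natCast_iff, Nat.cast_pow, Nat.cast_one] at hk1
    have hu0 : u ≠ 0 := by
      intro h0
      have hkpos : 0 < k := orderOf_pos _
      rw [← hu, h0, zero_pow hkpos.ne'] at hk1
      exact zero_ne_one hk1
    have hkdvd : k ∣ Nat.card G := by
      refine dvd_trans ?_ (Dvd.intro _ hMc)
      rw [hk, orderOf_injective φ hφ]
      exact orderOf_dvd_natCard _
    have hco : Nat.gcd k 10 ∣ 2 := by
      have h1 : Nat.Coprime (Nat.gcd k 10) 5 := by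
        refine Nat.Coprime.coprime_dvd_left (Nat.gcd_dvd_left k 10) ?_
        exact ((Nat.Prime.coprime_iff_not_dvd (by norm_num)).2 (fun h => h5 (h.trans hkdvd))).symm
      exact h1.dvd_of_dvd_mul_right (show Nat.gcd k 10 ∣ 2 * 5 from Nat.gcd_dvd_right k 10)
    have hu2 : u ^ 2 = 1 := by
      obtain ⟨c, hc⟩ := hco
      rw [hc, pow_mul, pow_gcd_eq_one.2 ⟨hk1, ZMod.pow_card_sub_one_eq_one hu0⟩, one_pow]
    rcases sq_eq_one_iff.1 hu2 with h | h
    · have h1 : x ^ i = x ^ 1 := by
        rw [pow_eq_pow_iff_modEq, hordx, ← ZMod.natCast_eq_natCast_iff, Nat.cast_one]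
        exact h
      rw [h1, pow_one, mul_inv_eq_iff_eq_mul] at hconj
      exact hconj
    · exfalso
      have h1 : x ^ i = x⁻¹ := by
        apply eq_inv_of_mul_eq_one_left
        rw [← pow_succ, ← orderOf_dvd_iff_pow_eq_one, hordx, ← ZMod.natCast_eq_zero_iff,
          Nat.cast_add, Nat.cast_one, ← hu, h]
        simp
      rw [h1] at hconj
      set h := φ m with hh
      have hsq_comm : h ^ 2 * x = x * h ^ 2 := by
        rw [sq, mul_assoc]
        calc h * (h * x) = h * (h * x * h⁻¹) * h := by group
          _ = h * x⁻¹ * h := by rw [hconj]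
          _ = (h * x * h⁻¹)⁻¹ * (h * h) := by group
          _ = x * (h * h) := by rw [hconj, inv_inv]
      have hfix : ∀ z, x z = z → h z = z := fun z hz => hMfix m z hz
      obtain ⟨l, hl⟩ := Subgroup.mem_zpowers_iff.1 (eq_pow_of_commute_cycle hxc hsq_comm (fun z hz => by
        rw [sq, Perm.mul_apply, hfix z hz, hfix z hz]))
      have hsq : h ^ 2 = 1 := by
        have h2 : h * (h ^ 2) * h⁻¹ = h ^ 2 := by group
        rw [← hl] at h2
        have h3 : h * x ^ l * h⁻¹ = (x ^ l)⁻¹ := by rw [← conj_zpow, hconj, inv_zpow]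
        rw [h2] at h3
        rw [← hl]
        have h4 : (x ^ l) ^ 2 = 1 := by rw [sq]; exact mul_eq_one_iff_eq_inv.2 h3
        have h5 : (x ^ l) ^ 11 = 1 := by
          rw [← zpow_natCast, ← zpow_mul, mul_comm, zpow_mul, zpow_natCast, ← hordx, pow_orderOf_eq_one, one_zpow]
        simpa using pow_gcd_eq_one.2 ⟨h4, h5⟩
      have hne : h ≠ 1 := by
        intro h'
        rw [h'] at hconj
        have : x ^ 2 = 1 := by
          have h7 : x = x⁻¹ := by simpa using hconj
          rw [sq]; exact mul_eq_one_iff_eq_inv.2 h7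
        have := Nat.le_of_dvd (by norm_num) (orderOf_dvd_of_pow_eq_one this)
        omega
      have hord : orderOf h = 2 := orderOf_eq_prime hsq hne
      obtain ⟨n, hn⟩ := Perm.cycleType_prime_order (σ := h) (hord ▸ Nat.prime_two)
      rw [hord] at hn
      have hsum := h.sum_cycleType
      rw [hn, Multiset.sum_replicate, smul_eq_mul] at hsum
      have hsub : h.support ⊆ x.support := fun z hz => by
        by_contra hc
        exact Perm.mem_support.1 hz (hfix z (Perm.notMem_support.1 hc))
      have hone : (x.support \ h.support).card ≤ 1 := by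
        rw [Finset.card_le_one]
        intro z hz w hw
        simp only [Finset.mem_sdiff, Perm.mem_support, not_not] at hz hw
        obtain ⟨j, hj⟩ := hxc.exists_pow_eq hz.1 hw.1
        have h6 : h * x ^ j = x⁻¹ ^ j * h := by rw [← hconj, conj_pow]; group
        have h7 : w = (x⁻¹ ^ j) z := by
          conv_lhs => rw [← hw.2, ← hj, ← Perm.mul_apply, h6, Perm.mul_apply, hz.2]
        have h8 : (x ^ (j * 2)) z = z := by
          rw [mul_two, pow_add, Perm.mul_apply, hj, h7, inv_pow]
          exact Equiv.apply_symm_apply _ _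
        have h9 : x ^ (j * 2) = 1 := hxc.pow_eq_one_iff.2 ⟨z, hz.1, h8⟩
        have h10 : 11 ∣ j * 2 := hordx ▸ orderOf_dvd_of_pow_eq_one h9
        obtain ⟨c, hc⟩ := (Nat.Coprime.dvd_of_dvd_mul_right (by norm_num) h10 : 11 ∣ j)
        rw [hc, pow_mul, ← hordx, pow_orderOf_eq_one, one_pow] at hj
        exact hj
      rw [Finset.card_sdiff_of_subset hsub, hxs] at hone
      have hle := Finset.card_le_card hsub
      rw [hxs] at hle
      have hsign : Perm.sign h = 1 := hGalt (m : G).2
      have hn4 : n = 4 := by omega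
      rw [Perm.sign_of_cycleType, hn, Multiset.sum_replicate, Multiset.card_replicate, hn4] at hsign
      norm_num at hsign
  have hcompl := MonoidHom.ker_transferSylow_isComplement' P hP
  set N := (MonoidHom.transferSylow P hP).ker
  have hN : Nat.card N * 11 = Nat.card M := by
    rw [← hcompl.card_mul]
    congr 1
    show 11 = Nat.card (Subgroup.zpowers Xm)
    rw [Nat.card_zpowers, hordX]
  have hNco : ¬ 11 ∣ Nat.card N := fun h => by
    have : 11 ^ 2 ∣ Nat.card M := hN ▸ (by rw [sq]; exact Nat.mul_dvd_mul_right h 11)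
    rw [(Fact.out : Nat.Prime 11).pow_dvd_iff_le_factorization Nat.card_pos.ne', hfac] at this
    omega
  -- `N` fixes the support of `x` pointwise
  have htr : IsPretransitive M (SubMulAction.ofFixingSubgroup G T) :=
    Perm.isPretransitive_of_isCycle_mem hxc hx
  have hcY : Nat.card (SubMulAction.ofFixingSubgroup G T) = 11 := by
    rw [show Nat.card (SubMulAction.ofFixingSubgroup G T) = (Tᶜ).ncard from Nat.card_coe_set_eq _, hT,
      compl_compl, Set.ncard_coe_finset, hxs]
  have hNbot : N = ⊥ := by
    rw [Subgroup.eq_bot_iff_forall]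
    intro n hn
    refine hφ (Equiv.ext fun z => ?_)
    by_cases hz : z ∈ T
    · exact hMfix n z (by simpa [hT] using hz)
    · let z' : SubMulAction.ofFixingSubgroup G T := ⟨z, hz⟩
      have hblk := MulAction.IsBlock.orbit_of_normal (N := N) z' (G := M)
      have hdvd : (orbit N z').ncard ∣ 11 := hcY ▸ hblk.ncard_dvd_card ⟨z', mem_orbit_self z'⟩
      rcases (Nat.dvd_prime (by norm_num)).1 hdvd with h1 | h1
      · obtain ⟨w, hw⟩ := Set.ncard_eq_one.1 h1
        have ha : (⟨n, hn⟩ : N) • z' ∈ orbit N z' := mem_orbit _ _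
        have hb : z' ∈ orbit N z' := mem_orbit_self z'
        rw [hw, Set.mem_singleton_iff] at ha hb
        exact congrArg Subtype.val (ha.trans hb.symm)
      · exfalso; apply hNco
        have h2 := Nat.card_congr (MulAction.orbitEquivQuotientStabilizer N z')
        rw [Nat.card_coe_set_eq, h1] at h2
        exact h2 ▸ Subgroup.card_quotient_dvd_card _
  rw [hNbot, Subgroup.card_bot] at hN
  exact no_sharp_three G h3 (r := 11) (s := 2) (t := 3) (by norm_num) (by norm_num) (by norm_num)
    (by norm_num) (by norm_num) (by norm_num) hd (by rw [← hMc, ← hN])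

end Cfsg.Agent.AltTwoPrimes
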